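import Cfsg.Agent.H985.XZ.CenD
import Cfsg.Agent.H69.LD.LinE
import Cfsg.Agent.H754.XZ.BlkOrb
import Cfsg.Agent.H674.XZ.BlkOneB
import Cfsg.Agent.H965.XZ.PanPlus
import Cfsg.Agent.H478.CC.DDefs

/-!
# `LinData` for `PΩ⁺` (helper985, for S4791, S4927)

* `exists_blkEl` : the block elements in every group which contains the root elements `X a b t`, `a.1 ≠ b.1`;
* `linData_modelD` : `LinData` for every `ModelD`;
* **`exists_linData_plus`** : `LinData` for `PΩ⁺_{2(n+2)}(F)` with the data of `WittInst.rgdD_model`.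
-/

set_option autoImplicit false
set_option linter.unusedSectionVars false

namespace Cfsg.Agent.H985.XZ

open Cfsg.Agent.ChevalleyStructure.CoxeterGeom Cfsg.Agent.Tits.Roots
open Cfsg.Agent.Nodes.TypeD
open Cfsg.Agent.Nodes Cfsg.Agent.Nodes.Comb Cfsg.Agent.Nodes.Reps Cfsg.Agent.Nodes.WittRoot Cfsg.Agent.Nodes.BNOf
open Cfsg.Agent.Nodes.RGDLib Cfsg.Agent.Nodes.WittAll Cfsg.Agent.Nodes.StabComb
open Cfsg.Agent.Nodes.Bruhat Cfsg.Agent.Nodes.OppDec Cfsg.Agent.Nodes.LeviDec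
open Cfsg.Agent.Nodes.WittRGD (Tor mem_Tor)
open Cfsg.Agent.TitsThree Cfsg.Agent.TitsThree.Siegel Cfsg.Agent.TitsThree.WittFrame
  Cfsg.Agent.TitsThree.WittWeyl Cfsg.Agent.TitsThree.FrameCN
open Cfsg.Agent.H769.OZ Cfsg.Agent.H967.XZ Cfsg.Agent.H754.XZ Cfsg.Agent.H796.XZ

/-! ### The block elements -/

section blk

variable {F : Type*} [Field F] {V : Type*} [AddCommGroup V] [Module F V] {H : HForm F V} {m : ℕ}
  {Fr : Frame H (Fin m)}

/-- from the action on the frame and on `V₀` -/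
theorem blkEl_of (hV0 : ∀ v, (∀ x, H.h v (Fr.b x) = 0) → v ∈ Fr.V0) {p e i : ℕ} {x : V ≃ₗ[F] V} (h1 : x ^ p = 1)
    (h2 : x ≠ 1) (h3 : ∀ s, ∀ v ∈ Mb Fr e i s, x v ∈ Mb Fr e i s)
    (h4 : ∀ (k : Fin m) s, ((k : ℕ) < e * i ∨ e * (i + 1) ≤ (k : ℕ)) → x (Fr.b (k, s)) = Fr.b (k, s))
    (h5 : ∀ v ∈ Fr.V0, x v = v) : BlkEl Fr p e i x := by
  refine ⟨h1, h2, h3, fun v hv => ?_⟩
  set n : V := v - cS Fr Finset.univ true v - cS Fr Finset.univ false v with hn
  have h6 : x n = n := h5 n (hV0 n fun y => h_rest v (Finset.mem_univ y.1) y.2)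
  have h7 : ∀ s, x (cS Fr Finset.univ s v) = cS Fr Finset.univ s v := by
    intro s
    unfold cS
    rw [map_sum]
    refine Finset.sum_congr rfl fun k _ => ?_
    rw [map_smul]
    by_cases hk : k ∈ Bk m e i
    · have h8 : H.h v (Fr.b (k, !s)) = 0 := hv _ _ (b_mem_Mb' hk _)
      cases s
      · rw [Bool.not_false] at h8
        simp only [Bool.false_eq_true, if_false]
        rw [h8, mul_zero, zero_smul, zero_smul]
      · rw [Bool.not_true] at h8
        simp only [if_true]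
        rw [h8, zero_smul, zero_smul]
    · rw [h4 k s (by rw [mem_Bk] at hk; omega)]
  have h8 : v = cS Fr Finset.univ true v + cS Fr Finset.univ false v + n := by
    rw [hn]
    abel
  rw [h8, map_add, map_add, h7, h7, h6]

/-- **the block elements** -/
theorem exists_blkEl [Finite V] [Fintype F] {G0 : Subgroup (V ≃ₗ[F] V)}
    (hV0 : ∀ v, (∀ x, H.h v (Fr.b x) = 0) → v ∈ Fr.V0) (hX : ∀ (a b : Fin m × Bool) t, a.1 ≠ b.1 → Fr.X a b t ∈ G0)
    {p : ℕ} [Fact p.Prime] {e : ℕ} (he : e = orderOf (Fintype.card F : ZMod p)) (he0 : 0 < e) {k : ℕ}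
    (hσ : ∀ a, H.σ a = a ^ k) (hk : ¬ p ∣ 1 + k) {w i : ℕ} (hm2 : 2 ≤ m) (hw : e * w ≤ m) (hi : i < w) :
    ∃ y : G0, BlkEl Fr p e i y.1 := by
  rcases Nat.lt_or_ge 1 e with he2 | h1
  · have h0 : e * (i + 1) ≤ e * w := Nat.mul_le_mul_left e hi
    have h1 : e * (i + 1) = e * i + e := Nat.mul_succ e i
    have h2 : p ∣ Nat.card F ^ (e * (i + 1) - e * i) - 1 := by
      have h3 : e * (i + 1) - e * i = e := by omega
      have h4 : 0 < Nat.card F ^ e := Nat.pow_pos Nat.card_pos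
      rw [h3, ← ZMod.natCast_eq_zero_iff, Nat.cast_sub h4, Nat.card_eq_fintype_card, Nat.cast_pow, he, pow_orderOf_eq_one,
        Nat.cast_one, sub_self]
    obtain ⟨y, hy, h3, h4⟩ := exists_order (Fr := Fr) (p := p) (lo := e * i) (hi := e * (i + 1)) (by omega) (by omega) h2
    have h5 : y ∈ G0 := by
      refine (Subgroup.closure_le _).2 ?_ hy
      rintro _ ⟨a, b, hab, -, -, -, -, t, rfl⟩
      exact hX _ _ _ hab
    refine ⟨⟨y, h5⟩, blkEl_of hV0 h3 h4 (fun s v hv => ?_) (fun k s hk => GA_fix_b hy k s hk) fun v hv => GA_fix_V0 hy hv⟩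
    exact (GA_StE hy s v).2 hv
  · have h2 : e = 1 := by omega
    subst h2
    exact Cfsg.Agent.H674.XZ.Blk.exists_blkEl_one_gen G0 hX he.symm hσ hk hm2 (by omega)

end blk

/-! ### Every `ModelD` -/

section model

variable {F : Type*} [Field F] {V : Type*} [AddCommGroup V] [Module F V] {H : HForm F V} {n : ℕ}
  {Fr : Frame H (Fin (n + 2))} {Y : Type*} [Group Y] (M : ModelD Fr Y)
  {W : Type*} [Group W] (cs : CoxeterSystem (TypeD.M n) W) (r : ℕ) [Finite V] [Fact r.Prime] [CharP F r]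
  (hA : Amb Fr M.I) (h0 : ∀ q : Fr.Adm, q = 1)

include hA h0 in
/-- **`LinData` for every model of type `D`** -/
theorem linData_modelD [Finite Y] [Fintype F] (hG : GG cs (isCartan n) M.T M.X = ⊤) {p e v w : ℕ}
    [Fact p.Prime] (hp2 : p ≠ 2) (hpr : p ≠ r) (he : e = orderOf (Fintype.card F : ZMod p)) (hpF : ¬ p ∣ Fintype.card F)
    {t : ℕ} (hσ : ∀ a, H.σ a = a ^ (r ^ t)) (hlin : ∀ j, ¬ p ∣ Fintype.card F ^ j + r ^ t)
    (hlin' : ∀ i, ¬ p ∣ 1 + Fintype.card F ^ i)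
    (hy : ∀ i : Fin (n + 2), Nat.card (M.X (sr i)) = Fintype.card F)
    (hm : v + e * w = n + 2) (hv : v < e) (hT : 1 < e → ¬ p ∣ Nat.card ↥M.T) :
    ∃ (P : Sylow p Y) (P₀ : Subgroup Y),
      LinData cs (isCartan n) M.T M.X p (H796.XZ.JA (n + 2) e w) {k : Fin (n + 2) | e * w ≤ (k : ℕ) ∧ 2 ≤ v} P P₀ := by
  have hfin : Finite W := finite_W cs
  have R := M.rgd cs r hA h0
  have hy1 : 1 < Fintype.card F := Fintype.one_lt_card
  exact Cfsg.Agent.H69.LD.exists_linData_D' R hG hp2 hpr hy hy1 (by omega) he.symm hm hv hlin' hT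
    fun P₀ hIs hle hS => M.cen_of cs r hA h0 hG he hpF hσ hlin hv hm hIs hS fun i hi =>
      exists_blkEl hA.V0 (fun a b t _ => hA.X_mem a b t) he (by omega) hσ (by
        have := hlin 0
        rwa [pow_zero] at this) (by omega) (by omega) hi

end model

/-! ### `PΩ⁺` -/

section Plus

open QuadraticMap
open Cfsg.Agent.LieClassical Cfsg.Agent.LieClassical.OrthCore Cfsg.Agent.LieClassical.OrthTrans
  Cfsg.Agent.LieClassical.OrthSimple Cfsg.Agent.LieClassical.OrthForms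
open Cfsg.Agent.TitsThree.WBridge Cfsg.Agent.TitsThree.KSideO Cfsg.Agent.Nodes.WittInst Cfsg.Agent.TitsThree.SiegelGen
open Cfsg.Agent.H478.CC (Qp Fr)

variable {F : Type*} [Field F] {n : ℕ}

/-- the torus of `Ω⁺` has exponent `q - 1` -/
theorem tor_pow [Finite F] {t : (Fin (n + 2) ⊕ Fin (n + 2) → F) ≃ₗ[F] (Fin (n + 2) ⊕ Fin (n + 2) → F)}
    (ht : t ∈ Tor (Fr n F) (E (Qp n F))) : t ^ (Nat.card F - 1) = 1 := by
  have : Fintype F := Fintype.ofFinite F
  have h1 : ∀ x : Fin (n + 2) × Bool, (t ^ (Nat.card F - 1)) ((Fr n F).b x) = (Fr n F).b x := by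
    intro x
    obtain ⟨l, hl, e⟩ := ht.2 x
    have h2 : ∀ N : ℕ, (t ^ N) ((Fr n F).b x) = l ^ N • (Fr n F).b x := by
      intro N
      induction N with
      | zero => rw [pow_zero, pow_zero, one_smul]; rfl
      | succ N ih =>
        rw [pow_succ', pow_succ']
        change t ((t ^ N) _) = _
        rw [ih, map_smul, e, smul_smul, mul_comm]
        rfl
    rw [h2, Nat.card_eq_fintype_card, FiniteField.pow_card_sub_one_eq_one l hl, one_smul]
  apply LinearEquiv.toLinearMap_injective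
  refine (Pi.basisFun F (Fin (n + 2) ⊕ Fin (n + 2))).ext fun j => ?_
  rw [Pi.basisFun_apply]
  rcases j with j | j
  · exact h1 (j, true)
  · exact h1 (j, false)

theorem not_dvd_T [Finite F] (hG : Good (Qp n F)) {p : ℕ} [Fact p.Prime]
    (ho : 1 < orderOf (Nat.card F : ZMod p)) :
    ¬ p ∣ Nat.card ↥(((Tor (Fr n F) (E (Qp n F))).subgroupOf (E (Qp n F))).map (toPOmega hG)) := by
  intro hd
  have : Finite ((Fin (n + 2) ⊕ Fin (n + 2) → F) ≃ₗ[F] (Fin (n + 2) ⊕ Fin (n + 2) → F)) :=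
    Finite.of_injective (fun g : (Fin (n + 2) ⊕ Fin (n + 2) → F) ≃ₗ[F] (Fin (n + 2) ⊕ Fin (n + 2) → F) =>
      (g : (Fin (n + 2) ⊕ Fin (n + 2) → F) → (Fin (n + 2) ⊕ Fin (n + 2) → F))) DFunLike.coe_injective
  have hfin : Finite (Cfsg.POmega F ⇑(Qp n F)) := Finite.of_surjective _ (toPOmega_surjective hG)
  obtain ⟨⟨_, g, hg, rfl⟩, hx⟩ := exists_prime_orderOf_dvd_card' p hd
  have h1 : toPOmega hG g ^ (Nat.card F - 1) = 1 := by
    rw [← map_pow]
    have h2 : g ^ (Nat.card F - 1) = 1 := Subtype.ext (tor_pow (Subgroup.mem_subgroupOf.1 hg))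
    rw [h2, map_one]
  have h2 : orderOf (toPOmega hG g) = p := by
    rw [← hx]
    exact Subgroup.orderOf_coe (⟨toPOmega hG g, _⟩ : ↥(((Tor (Fr n F) (E (Qp n F))).subgroupOf (E (Qp n F))).map
      (toPOmega hG)))
  have h3 : p ∣ Nat.card F - 1 := by
    rw [← h2]
    exact orderOf_dvd_of_pow_eq_one h1
  have h4 : (Nat.card F : ZMod p) = 1 := by
    have h5 : ((Nat.card F - 1 : ℕ) : ZMod p) = 0 := (ZMod.natCast_eq_zero_iff _ _).2 h3
    rw [Nat.cast_sub Nat.card_pos, Nat.cast_one, sub_eq_zero] at h5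
    exact h5
  rw [h4, orderOf_one] at ho
  exact lt_irrefl _ ho

/-- for odd `ord_p(q)` no `q ^ i + 1` is divisible by `p` -/
theorem not_dvd_pow_add {q p : ℕ} [Fact p.Prime] (hp2 : p ≠ 2) (ho : Odd (orderOf (q : ZMod p))) (i : ℕ) :
    ¬ p ∣ q ^ i + 1 := by
  intro hd
  have h1 : ((q : ZMod p)) ^ i = -1 := by
    have := (ZMod.natCast_eq_zero_iff (q ^ i + 1) p).2 hd
    push_cast at this
    exact eq_neg_of_add_eq_zero_left this
  have h2 : (q : ZMod p) ^ (2 * i) = 1 := by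
    rw [mul_comm, pow_mul, h1]
    ring
  have h3 : orderOf (q : ZMod p) ∣ i := by
    have h4 := orderOf_dvd_of_pow_eq_one h2
    exact (Nat.Coprime.dvd_mul_left (Nat.Coprime.symm (Nat.coprime_two_left.2 ho))).1 h4
  have h4 : (q : ZMod p) ^ i = 1 := orderOf_dvd_iff_pow_eq_one.1 h3
  rw [h1] at h4
  have h5 : Fact (2 < p) := ⟨lt_of_le_of_ne (Fact.out : p.Prime).two_le (Ne.symm hp2)⟩
  exact ZMod.neg_one_ne_one h4

/-- **`LinData` for `PΩ⁺`** -/
theorem exists_linData_plus [Finite F] {r : ℕ} [Fact r.Prime] [CharP F r] (hG : Good (Qp n F)) {p : ℕ} [Fact p.Prime]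
    (hp2 : p ≠ 2) (hpr : p ≠ r) {W : Type*} [Group W] (cs : CoxeterSystem (TypeD.M n) W) {e v w : ℕ}
    (ho : orderOf (Nat.card F : ZMod p) = e) (hodd : Odd e) (hm : v + e * w = n + 2) (hv : v < e) :
    ∃ (P : Sylow p (Cfsg.POmega F ⇑(Qp n F))) (P₀ : Subgroup (Cfsg.POmega F ⇑(Qp n F))),
      LinData cs (isCartan n) (((Tor (Fr n F) (E (Qp n F))).subgroupOf (E (Qp n F))).map (toPOmega hG))
        (XD (wplus (n + 2) F) (toPOmega hG)) p (H796.XZ.JA (n + 2) e w)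
        {k : Fin (n + 2) | e * w ≤ (k : ℕ) ∧ 2 ≤ v} P P₀ := by
  have : Fintype F := Fintype.ofFinite F
  have : Finite ((Fin (n + 2) ⊕ Fin (n + 2) → F) ≃ₗ[F] (Fin (n + 2) ⊕ Fin (n + 2) → F)) :=
    Finite.of_injective (fun g : (Fin (n + 2) ⊕ Fin (n + 2) → F) ≃ₗ[F] (Fin (n + 2) ⊕ Fin (n + 2) → F) =>
      (g : (Fin (n + 2) ⊕ Fin (n + 2) → F) → (Fin (n + 2) ⊕ Fin (n + 2) → F))) DFunLike.coe_injective
  have hfin : Finite (Cfsg.POmega F ⇑(Qp n F)) := Finite.of_surjective _ (toPOmega_surjective hG)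
  have hodd' : Odd (orderOf (Fintype.card F : ZMod p)) := by rwa [← Nat.card_eq_fintype_card, ho]
  have hpF : ¬ p ∣ Fintype.card F := by
    intro hd
    obtain ⟨k, hk, hc⟩ := FiniteField.card F r
    rw [hc] at hd
    exact hpr ((Nat.prime_dvd_prime_iff_eq Fact.out Fact.out).1 ((Fact.out : p.Prime).dvd_of_dvd_pow hd))
  exact linData_modelD (modelPO (wplus (n + 2) F) hG) cs r (amb_plus _) (adm_plus _) (modelPO_GG _ hG (adm_plus _) cs)
    hp2 hpr (by rw [← ho, Nat.card_eq_fintype_card]) hpF (t := 0) (fun a => by rw [pow_zero, pow_one]; rfl)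
    (fun j => by rw [pow_zero]; exact not_dvd_pow_add hp2 hodd' j)
    (fun j => by rw [Nat.add_comm]; exact not_dvd_pow_add hp2 hodd' j)
    (fun i => by rw [← Nat.card_eq_fintype_card]; exact Cfsg.Agent.H965.XZ.card_XD (wplus (n + 2) F) hG i) hm hv
    (fun he => not_dvd_T hG (by rw [ho]; exact he))

end Plus

end Cfsg.Agent.H985.XZ
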