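import Cfsg.Agent.H769.OZ.Levi
import Cfsg.Agent.Nodes.WittInst

/-!
# Levi subgroups of the models on hyperbolic Witt frames, type `D_{n+2}` (helper985, S4791 + S4927)

The analogue of `H769.OZ.Levi` for type `D`. `M : ModelD Fr K` : a group `M.I` of isometries of the frame
`Fr : Frame H (Fin (n + 2))` and an epimorphism `M.φ : M.I →* K` with scalar kernel.

* `NodeK N k` : the set `N` of nodes belongs to the member `E Fr k true` of the flag:
  `k < n`, `N = {k}`; `k = n`, `N = {n, n + 1}`; `k = n + 1`, `N = {n + 1}`;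
* `phi_mem_PJ_iff`, `phi_mem_LJ_iff` : membership in `P_{Nᶜ}`, `L_{Nᶜ}`;
* `plus` : the model `PΩ⁺`, with the data of `WittInst.rgdD_model`.
-/

set_option autoImplicit false
set_option linter.unusedSectionVars false
set_option linter.unreachableTactic false
set_option linter.unusedTactic false

namespace Cfsg.Agent.H985.XZ

open Cfsg.Agent.ChevalleyStructure.CoxeterGeom Cfsg.Agent.Tits.Roots
open Cfsg.Agent.Nodes.TypeC (wt wt_apply ng ng_ng ng_fst ng_snd wt_ng)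
open Cfsg.Agent.Nodes.TypeD
open Cfsg.Agent.Nodes Cfsg.Agent.Nodes.Comb Cfsg.Agent.Nodes.Reps Cfsg.Agent.Nodes.WittRoot Cfsg.Agent.Nodes.BNOf
open Cfsg.Agent.Nodes.RGDLib Cfsg.Agent.Nodes.WittAll Cfsg.Agent.Nodes.StabComb
open Cfsg.Agent.Nodes.Bruhat Cfsg.Agent.Nodes.OppDec Cfsg.Agent.Nodes.LeviDec
open Cfsg.Agent.Nodes.WittRGD (Tor mem_Tor)
open Cfsg.Agent.TitsThree Cfsg.Agent.TitsThree.Siegel Cfsg.Agent.TitsThree.WittFrame
  Cfsg.Agent.TitsThree.WittWeyl Cfsg.Agent.TitsThree.FrameCN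
open Cfsg.Agent.H415.SpFlag (sum_wt)
open Cfsg.Agent.H769.OZ

/-! ### The nodes -/

section nodes

variable {n : ℕ}

/-- the set `N` of nodes belongs to the flag member `k` -/
def NodeK (N : Set (Fin (n + 2))) (k : Fin (n + 2)) : Prop :=
  ((k : ℕ) < n ∧ N = {k}) ∨ ((k : ℕ) = n ∧ N = {k, Fin.last (n + 1)}) ∨ (k = Fin.last (n + 1) ∧ N = {k})

theorem NodeK.of_lt {k : Fin (n + 2)} (h : (k : ℕ) < n) : NodeK {k} k := Or.inl ⟨h, rfl⟩

theorem NodeK.pair : NodeK ({pd n, Fin.last (n + 1)} : Set (Fin (n + 2))) (pd n) := Or.inr (Or.inl ⟨rfl, rfl⟩)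

theorem NodeK.last : NodeK ({Fin.last (n + 1)} : Set (Fin (n + 2))) (Fin.last (n + 1)) := Or.inr (Or.inr ⟨rfl, rfl⟩)

/-- partial sums -/
theorem sum_ee (x : Fin (n + 2) → ℤ) (m : Fin (n + 2)) : ∑ k ∈ Finset.Iic m, ee x k =
    if (m : ℕ) < n then x m else if (m : ℕ) = n then x m + x (Fin.last (n + 1)) else 2 * x m := by
  have h1 : ∀ k, ee x k = ∑ j, x j * bt j k := by
    intro k
    simp [ee, Finset.sum_apply]
  simp only [h1]
  rw [Finset.sum_comm]
  simp only [← Finset.mul_sum, sum_bt]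
  have hm := m.2
  rw [Fin.sum_univ_castSucc]
  have h2 : ∀ i : Fin (n + 1), ((i.castSucc : Fin (n + 2)) : ℕ) + 1 < n + 2 := fun i => by
    have := i.2
    simp only [Fin.val_castSucc]
    omega
  have h3 : ¬ ((Fin.last (n + 1) : Fin (n + 2)) : ℕ) + 1 < n + 2 := by simp
  simp only [h2, h3, if_true, if_false]
  by_cases h4 : (m : ℕ) < n + 1
  · have h5 : m = (⟨m, h4⟩ : Fin (n + 1)).castSucc := by ext; simp
    rw [Finset.sum_eq_single (⟨m, h4⟩ : Fin (n + 1))]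
    · rw [← h5, if_pos rfl]
      split_ifs <;> first | omega | ring
    · intro j _ hj
      rw [if_neg, mul_zero]
      intro h'
      apply hj
      ext
      have := congrArg Fin.val h'
      simpa using this.symm
    · simp
  · have h5 : m = Fin.last (n + 1) := by ext; simp; omega
    rw [Finset.sum_eq_zero]
    · subst h5
      have h6 : ((Fin.last (n + 1) : Fin (n + 2)) : ℕ) = n + 1 := by simp
      rw [h6, if_neg (by omega), if_pos rfl, if_neg (by omega), if_neg (by omega)]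
      ring
    · intro j _
      rw [if_neg, mul_zero]
      rintro h'
      have := congrArg Fin.val h'
      have hj := j.2
      simp at this
      omega

theorem NodeK.sum_eq_zero {N : Set (Fin (n + 2))} {k : Fin (n + 2)} (hN : NodeK N k) {x : Fin (n + 2) → ℤ}
    (hx : ∀ i ∈ N, x i = 0) : ∑ j ∈ Finset.Iic k, ee x j = 0 := by
  rw [sum_ee]
  rcases hN with ⟨h, rfl⟩ | ⟨h, rfl⟩ | ⟨rfl, rfl⟩
  · rw [if_pos h, hx k rfl]
  · rw [if_neg (by omega), if_pos h, hx k (by simp), hx _ (by simp), add_zero]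
  · have h6 : ((Fin.last (n + 1) : Fin (n + 2)) : ℕ) = n + 1 := by simp
    rw [h6, if_neg (by omega), if_neg (by omega), hx _ rfl, mul_zero]

theorem NodeK.sum_pos {N : Set (Fin (n + 2))} {k : Fin (n + 2)} (hN : NodeK N k) {x : Fin (n + 2) → ℤ}
    (h0 : 0 ≤ x) (hx : ∃ i ∈ N, 0 < x i) : 0 < ∑ j ∈ Finset.Iic k, ee x j := by
  rw [sum_ee]
  obtain ⟨i, hi, hi0⟩ := hx
  rcases hN with ⟨h, rfl⟩ | ⟨h, rfl⟩ | ⟨rfl, rfl⟩
  · obtain rfl : i = k := hi
    rw [if_pos h]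
    exact hi0
  · rw [if_neg (by omega), if_pos h]
    have h1 : (0 : ℤ) ≤ x k := h0 k
    have h2 : (0 : ℤ) ≤ x (Fin.last (n + 1)) := h0 _
    rcases hi with rfl | hi
    · exact add_pos_of_pos_of_nonneg hi0 h2
    · obtain rfl : i = Fin.last (n + 1) := hi
      exact add_pos_of_nonneg_of_pos h1 hi0
  · obtain rfl : i = Fin.last (n + 1) := hi
    have h6 : ((Fin.last (n + 1) : Fin (n + 2)) : ℕ) = n + 1 := by simp
    rw [h6, if_neg (by omega), if_neg (by omega)]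
    exact mul_pos (by norm_num) hi0

theorem sum_eq_of {k : Fin (n + 2)} {x : Fin (n + 2) → ℤ} {a b : Fin (n + 2) × Bool} (e : ee x = wt a + wt b) :
    ∑ j ∈ Finset.Iic k, ee x j = (if a.1 ≤ k then (if a.2 then (1 : ℤ) else -1) else 0) +
      (if b.1 ≤ k then (if b.2 then (1 : ℤ) else -1) else 0) := by
  rw [e]
  simp only [Pi.add_apply, Finset.sum_add_distrib, sum_wt]

theorem levi_cases {k : Fin (n + 2)} {x : Fin (n + 2) → ℤ} {a b : Fin (n + 2) × Bool}
    (e : ee x = wt a + wt b) (hx : ∑ j ∈ Finset.Iic k, ee x j = 0) :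
    (k < a.1 ∧ k < b.1) ∨ (a.1 ≤ k ∧ b.1 ≤ k ∧ a.2 ≠ b.2) := by
  rw [sum_eq_of e] at hx
  by_cases h2 : a.1 ≤ k <;> by_cases h3 : b.1 ≤ k
  · refine Or.inr ⟨h2, h3, fun h4 => ?_⟩
    rw [if_pos h2, if_pos h3, h4] at hx
    split_ifs at hx <;> norm_num at hx
  · rw [if_pos h2, if_neg h3] at hx
    split_ifs at hx <;> norm_num at hx
  · rw [if_neg h2, if_pos h3] at hx
    split_ifs at hx <;> norm_num at hx
  · exact Or.inl ⟨not_le.1 h2, not_le.1 h3⟩

theorem pos_cases {k : Fin (n + 2)} {x : Fin (n + 2) → ℤ} {a b : Fin (n + 2) × Bool}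
    (e : ee x = wt a + wt b) (hx : 0 < ∑ j ∈ Finset.Iic k, ee x j) :
    (H415.SpFlag.Good a b ∧ ((a.1 ≤ k ∧ (b.2 = true ∨ k < b.1)) ∨ (b.1 ≤ k ∧ b.2 = true))) ∨
      (H415.SpFlag.Good b a ∧ ((b.1 ≤ k ∧ (a.2 = true ∨ k < a.1)) ∨ (a.1 ≤ k ∧ a.2 = true))) := by
  rw [sum_eq_of e] at hx
  obtain ⟨i, s⟩ := a
  obtain ⟨j, t⟩ := b
  unfold H415.SpFlag.Good
  simp only at hx ⊢
  by_cases h2 : i ≤ k
  · rw [if_pos h2] at hx
    by_cases h3 : j ≤ k
    · rw [if_pos h3] at hx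
      cases s
      · cases t
        · norm_num at hx
        · norm_num at hx
      · cases t
        · norm_num at hx
        · exact Or.inl ⟨⟨rfl, Or.inl rfl⟩, Or.inl ⟨h2, Or.inl rfl⟩⟩
    · rw [if_neg h3] at hx
      have h4 : k < j := not_le.1 h3
      cases s
      · norm_num at hx
      · cases t
        · exact Or.inl ⟨⟨rfl, Or.inr ⟨lt_of_le_of_lt h2 h4, rfl⟩⟩, Or.inl ⟨h2, Or.inr h4⟩⟩
        · exact Or.inl ⟨⟨rfl, Or.inl rfl⟩, Or.inl ⟨h2, Or.inl rfl⟩⟩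
  · rw [if_neg h2] at hx
    have h4 : k < i := not_le.1 h2
    by_cases h3 : j ≤ k
    · rw [if_pos h3] at hx
      cases t
      · norm_num at hx
      · cases s
        · exact Or.inr ⟨⟨rfl, Or.inr ⟨lt_of_le_of_lt h3 h4, rfl⟩⟩, Or.inl ⟨h3, Or.inr h4⟩⟩
        · exact Or.inl ⟨⟨rfl, Or.inl rfl⟩, Or.inr ⟨h3, rfl⟩⟩
    · rw [if_neg h3] at hx
      norm_num at hx

end nodes

/-! ### The root groups -/

section lin

variable {F : Type*} [Field F] {V : Type*} [AddCommGroup V] [Module F V] {H : HForm F V} {n : ℕ}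
  {Fr : Frame H (Fin (n + 2))} {k : Fin (n + 2)} {N : Set (Fin (n + 2))} {W : Type*} [Group W]
  {cs : CoxeterSystem (TypeD.M n) W}

/-- the root groups of the positive roots outside `Nᶜ` -/
theorem rg_le_UR (hN : NodeK N k) {x : Fin (n + 2) → ℤ} (hx : IsRoot cs (isCartan n) x) (h0 : 0 ≤ x)
    (hk : ∃ i ∈ N, 0 < x i) : WittRGDD.rg Fr x ≤ UR Fr k := by
  obtain ⟨a, b, hab, e⟩ := exists_of_isRoot cs hx
  rw [WittRGDD.rg_eq _ hab e]
  have hab' : a.1 ≠ b.1 := hab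
  rcases pos_cases e (hN.sum_pos h0 hk) with ⟨h1, h2⟩ | ⟨h1, h2⟩
  · rw [← PG_ne Fr hab']
    exact PG_le_UR (Or.inl hab') h1 h2
  · rw [XG_swap Fr hab', ← PG_ne Fr hab'.symm]
    exact PG_le_UR (Or.inl hab'.symm) h1 h2

/-- the root groups of the roots of `Nᶜ` -/
theorem rg_le_St (hN : NodeK N k) {x : Fin (n + 2) → ℤ} (hx : IsRoot cs (isCartan n) x)
    (hk : ∀ i ∈ N, x i = 0) (s : Bool) : WittRGDD.rg Fr x ≤ StE (E Fr k s) := by
  obtain ⟨a, b, hab, e⟩ := exists_of_isRoot cs hx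
  rw [WittRGDD.rg_eq _ hab e]
  have hab' : a.1 ≠ b.1 := hab
  rw [← PG_ne Fr hab']
  exact PG_le_St (Or.inl hab') (levi_cases e (hN.sum_eq_zero hk)) s

end lin

/-! ### The Weyl elements -/

section weyl

variable {F : Type*} [Field F] {V : Type*} [AddCommGroup V] [Module F V] {H : HForm F V} {n : ℕ}
  {Fr : Frame H (Fin (n + 2))} {k : Fin (n + 2)} {N : Set (Fin (n + 2))}

theorem b_notMem_true {y : Fin (n + 2) × Bool} (h : y.2 = false ∨ k < y.1) : Fr.b y ∉ E Fr k true := by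
  intro hm
  obtain ⟨j, t⟩ := y
  have h1 := h_E_zero (Fr := Fr) (k := k) (s := true) (x := (j, !t)) (by
    rcases h with h | h
    · simp only at h
      subst h
      exact Or.inl rfl
    · exact Or.inr h) hm
  rw [Fr.hb] at h1
  cases t
  · simp only [Bool.not_false, Bool.false_eq_true, ne_eq, not_false_eq_true, and_self, if_true, if_false] at h1
    exact H.ε_ne h1
  · simp at h1

theorem sg_perm (hN : NodeK N k) {i : Fin (n + 2)} (hi : i ∉ N) {j : Fin (n + 2)} (hj : j ≤ k) :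
    ∃ j' : Fin (n + 2), j' ≤ k ∧ sg i (j, true) = (j', true) := by
  have hj' : (j : ℕ) ≤ k := hj
  have hk2 := k.2
  have hik : i ≠ k := by
    rintro rfl
    rcases hN with ⟨-, rfl⟩ | ⟨-, rfl⟩ | ⟨-, rfl⟩ <;> simp at hi
  have hik' : (i : ℕ) ≠ k := fun h => hik (Fin.ext h)
  by_cases h : (i : ℕ) + 1 < n + 2
  · by_cases h1 : j = i
    · subst h1
      refine ⟨⟨j + 1, h⟩, ?_, sg_up h _⟩
      rw [Fin.le_def]
      simp only
      omega
    · by_cases h2 : (j : ℕ) = i + 1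
      · have : j = ⟨i + 1, h⟩ := Fin.ext h2
        rw [this, sg_down h]
        refine ⟨i, ?_, rfl⟩
        rw [Fin.le_def]
        omega
      · exact ⟨j, hj, sg_of_ne h h1 h2⟩
  · have hi2 := i.2
    have hin : (i : ℕ) = n + 1 := by omega
    have hil : i = Fin.last (n + 1) := Fin.ext (by rw [hin]; simp)
    have hkn : (k : ℕ) < n := by
      rcases hN with ⟨h3, -⟩ | ⟨-, rfl⟩ | ⟨h3, -⟩
      · exact h3
      · exact absurd (by rw [hil]; simp) hi
      · exact absurd (by rw [hil, h3]) hik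
    exact ⟨j, hj, sg_last_of_ne h (by simp only; omega)⟩

theorem nn_StE_iff (hN : NodeK N k) (i : Fin (n + 2)) : WittRGDD.nn Fr i ∈ StE (E Fr k true) ↔ i ∉ N := by
  have hm := WittRGDD.mono_nn (Fr := Fr) i
  have hk2 := k.2
  constructor
  · intro h hiN
    -- an index which leaves
    obtain ⟨j, hj, hy⟩ : ∃ j : Fin (n + 2), j ≤ k ∧ ((sg i (j, true)).2 = false ∨ k < (sg i (j, true)).1) := by
      rcases hN with ⟨h1, rfl⟩ | ⟨h1, rfl⟩ | ⟨h1, rfl⟩
      · obtain rfl : i = k := hiN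
        refine ⟨i, le_rfl, Or.inr ?_⟩
        rw [sg_up (by omega)]
        exact Fin.lt_def.2 (Nat.lt_succ_self _)
      · rcases hiN with rfl | hiN
        · refine ⟨i, le_rfl, Or.inr ?_⟩
          rw [sg_up (by omega)]
          exact Fin.lt_def.2 (Nat.lt_succ_self _)
        · obtain rfl : i = Fin.last (n + 1) := hiN
          refine ⟨k, le_rfl, Or.inl ?_⟩
          have e : k = pd n := Fin.ext h1
          have h3 : ¬ ((Fin.last (n + 1) : Fin (n + 2)) : ℕ) + 1 < n + 2 := by simp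
          have h4 : pd n ≠ Fin.last (n + 1) := by simp [pd, Fin.ext_iff]
          unfold sg
          rw [dif_neg h3, e, if_neg h4, if_pos rfl]
          rfl
      · obtain rfl : i = k := hiN
        refine ⟨i, le_rfl, Or.inl ?_⟩
        have h3 : ¬ (i : ℕ) + 1 < n + 2 := by rw [h1]; simp
        rw [sg_last h3]
        rfl
    obtain ⟨l, hl, e⟩ := hm (j, true)
    have h1 : WittRGDD.nn Fr i (Fr.b (j, true)) ∈ E Fr k true := (h _).2 (b_mem_E hj _)
    rw [e] at h1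
    have h2 := Submodule.smul_mem _ l⁻¹ h1
    rw [smul_smul, inv_mul_cancel₀ hl, one_smul] at h2
    exact b_notMem_true hy h2
  · intro hiN
    have hle : ∀ g : V ≃ₗ[F] V, Mono Fr g (sg i) → ∀ v ∈ E Fr k true, g v ∈ E Fr k true := by
      intro g hg v hv
      refine Submodule.span_induction (p := fun v _ => g v ∈ E Fr k true) ?_ ?_ ?_ ?_ hv
      · rintro _ ⟨j, hj, rfl⟩
        obtain ⟨c, -, hc⟩ := hg (j, true)
        obtain ⟨j', hj', e⟩ := sg_perm hN hiN hj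
        rw [hc, e]
        exact Submodule.smul_mem _ _ (b_mem_E hj' _)
      · rw [map_zero]
        exact zero_mem _
      · intro x y _ _ hx hy
        rw [map_add]
        exact add_mem hx hy
      · intro c x _ hx
        rw [map_smul]
        exact Submodule.smul_mem _ _ hx
    intro v
    refine ⟨fun h => ?_, hle _ hm v⟩
    have := hle _ (hm.inv (sg_sg i)) _ h
    rwa [inv_apply_self] at this

end weyl

/-! ### The group -/

section group

variable {F : Type*} [Field F] {V : Type*} [AddCommGroup V] [Module F V] {H : HForm F V} {n : ℕ}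

/-- a group of isometries of a hyperbolic frame and a quotient modulo scalars -/
structure ModelD (Fr : Frame H (Fin (n + 2))) (K : Type*) [Group K] where
  /-- the group of isometries -/
  I : Subgroup (V ≃ₗ[F] V)
  /-- the projection -/
  φ : I →* K
  ker : ∀ (v : V) (g : I), φ g = 1 → ∃ a : F, g.1 v = a • v
  surj : Function.Surjective φ

namespace ModelD

variable {Fr : Frame H (Fin (n + 2))} {K : Type*} [Group K] (M : ModelD Fr K)

/-- the torus -/
def T : Subgroup K := ((Tor Fr M.I).subgroupOf M.I).map M.φ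

/-- the root groups -/
def X (x : Fin (n + 2) → ℤ) : Subgroup K := ((WittRGDD.rg Fr x).subgroupOf M.I).map M.φ

theorem mem_X {x : Fin (n + 2) → ℤ} {y : K} : y ∈ M.X x ↔ ∃ (g : V ≃ₗ[F] V) (hg : g ∈ M.I), g ∈ WittRGDD.rg Fr x ∧
    M.φ ⟨g, hg⟩ = y := by
  constructor
  · rintro ⟨g, hg, rfl⟩
    exact ⟨g.1, g.2, hg, rfl⟩
  · rintro ⟨g, hg, h, rfl⟩
    exact ⟨⟨g, hg⟩, h, rfl⟩

theorem ker_StE {g : M.I} (hg : M.φ g = 1) (D : Submodule F V) : g.1 ∈ StE D := by
  have key : ∀ g : M.I, M.φ g = 1 → ∀ v ∈ D, g.1 v ∈ D := by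
    intro g hg v hv
    obtain ⟨a, ha⟩ := M.ker v g hg
    rw [ha]
    exact Submodule.smul_mem _ _ hv
  intro v
  refine ⟨fun h => ?_, key g hg v⟩
  have := key g⁻¹ (by rw [map_inv, hg, inv_one]) _ h
  have e : (g⁻¹ : M.I).1 (g.1 v) = v := inv_apply_self g.1 v
  rwa [e] at this

/-- the image of the stabiliser of `D` -/
def StK (D : Submodule F V) : Subgroup K := ((StE D).subgroupOf M.I).map M.φ

theorem phi_mem_StK {D : Submodule F V} {g : M.I} : M.φ g ∈ M.StK D ↔ g.1 ∈ StE D := by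
  constructor
  · rintro ⟨g', hg', e⟩
    have h1 : M.φ (g * g'⁻¹) = 1 := by rw [map_mul, map_inv, e, mul_inv_cancel]
    have h2 := mul_mem (M.ker_StE h1 D) (Subgroup.mem_subgroupOf.1 hg')
    have e2 : (g * g'⁻¹ : M.I).1 * g'.1 = g.1 := by
      change g.1 * g'.1⁻¹ * g'.1 = g.1
      group
    rwa [e2] at h2
  · intro h
    exact Subgroup.mem_map_of_mem _ (Subgroup.mem_subgroupOf.2 h)

theorem mem_StK {D : Submodule F V} {x : K} : x ∈ M.StK D ↔ ∃ g : M.I, g.1 ∈ StE D ∧ M.φ g = x := by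
  constructor
  · rintro ⟨g, hg, e⟩
    exact ⟨g, Subgroup.mem_subgroupOf.1 hg, e⟩
  · rintro ⟨g, hg, rfl⟩
    exact M.phi_mem_StK.2 hg

variable {W : Type*} [Group W] (cs : CoxeterSystem (TypeD.M n) W) {k : Fin (n + 2)} {N : Set (Fin (n + 2))}

theorem T_le_StK (s : Bool) : M.T ≤ M.StK (E Fr k s) := by
  rintro _ ⟨g, hg, rfl⟩
  exact M.phi_mem_StK.2 (mono_StE (Subgroup.mem_subgroupOf.1 hg).2 s)

theorem B_le_StK (hN : NodeK N k) : RGD.B cs (isCartan n) M.T M.X ≤ M.StK (E Fr k true) := by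
  refine sup_le (M.T_le_StK true) (RGD.Sup_le fun x hx => ?_)
  intro y hy
  rw [mem_X] at hy
  obtain ⟨g, hg, hgx, rfl⟩ := hy
  refine (M.phi_mem_StK (g := ⟨g, hg⟩)).2 ?_
  by_cases h : ∃ i ∈ N, 0 < x i
  · exact UR_le_St (rg_le_UR hN hx.1 hx.2 h hgx)
  · refine rg_le_St hN hx.1 (fun i hi => ?_) true hgx
    have h1 : (0 : ℤ) ≤ x i := hx.2 i
    by_contra h2
    exact h ⟨i, hi, lt_of_le_of_ne h1 (Ne.symm h2)⟩

theorem LJ_le_StK (hN : NodeK N k) (s : Bool) : LJ cs (isCartan n) M.T M.X Nᶜ ≤ M.StK (E Fr k s) := by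
  refine sup_le (M.T_le_StK s) (RGD.Sup_le fun x hx => ?_)
  intro y hy
  rw [mem_X] at hy
  obtain ⟨g, hg, hgx, rfl⟩ := hy
  exact (M.phi_mem_StK (g := ⟨g, hg⟩)).2
    (rg_le_St hN hx.1 (fun i hi => hx.2 i (fun h => h hi)) s hgx)

theorem VJ_le (hN : NodeK N k) {x : K} (hx : x ∈ VJ cs (isCartan n) M.X Nᶜ) :
    ∃ g : M.I, g.1 ∈ UR Fr k ∧ M.φ g = x := by
  have h1 : VJ cs (isCartan n) M.X Nᶜ ≤ ((UR Fr k).subgroupOf M.I).map M.φ := by
    refine RGD.Sup_le fun x hx => ?_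
    obtain ⟨h1, h2, j, hj, h3⟩ := hx
    have hjN : j ∈ N := by
      by_contra h
      exact hj h
    intro y hy
    rw [mem_X] at hy
    obtain ⟨g, hg, hgx, rfl⟩ := hy
    exact Subgroup.mem_map_of_mem _ (Subgroup.mem_subgroupOf.2 (rg_le_UR hN h1 h2 ⟨j, hjN, h3⟩ hgx))
  obtain ⟨g, hg, e⟩ := h1 hx
  exact ⟨g, Subgroup.mem_subgroupOf.1 hg, e⟩

/-- the Weyl elements -/
noncomputable def nw (hA : Amb Fr M.I) (i : Fin (n + 2)) : K := M.φ ⟨WittRGDD.nn Fr i, WittRGDD.nn_mem hA i⟩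

theorem ker_le_center : M.φ.ker ≤ Subgroup.center ↥M.I := by
  intro g hg
  rw [Subgroup.mem_center_iff]
  intro k
  obtain ⟨a, ha⟩ := LinearMap.exists_eq_smul_id_of_forall_notLinearIndependent (f := (g.1 : V →ₗ[F] V)) (fun v => by
    intro hli
    obtain ⟨k, hk⟩ := M.ker v g hg
    have h1 := LinearIndependent.pair_iff.1 hli k (-1) (by
      change k • v + (-1 : F) • g.1 v = 0
      rw [hk, neg_smul, one_smul, add_neg_cancel])
    exact one_ne_zero (neg_eq_zero.1 h1.2))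
  have ha' : ∀ v, g.1 v = a • v := fun v => LinearMap.congr_fun ha v
  apply Subtype.ext
  ext v
  change k.1 (g.1 v) = g.1 (k.1 v)
  rw [ha', ha', map_smul]

variable (p : ℕ) [Fact p.Prime] [CharP F p] [Finite V] (hA : Amb Fr M.I) (h0 : ∀ q : Fr.Adm, q = 1)

include h0 in
/-- **the root group datum of a model** -/
theorem rgd : RGD cs (isCartan n) p M.T (M.nw hA) M.X := by
  have : Finite (V ≃ₗ[F] V) := Finite.of_injective (fun g : V ≃ₗ[F] V => (g : V → V)) DFunLike.coe_injective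
  have : Finite W := finite_W cs
  exact rgd_map_of_ker_le_center (rgd_restrict (rgdD hA h0 cs) M.I (fun x _ => by
    refine iSup_le fun q => ?_
    rintro _ ⟨t, rfl⟩
    exact hA.X_mem _ _ _) (fun i => WittRGDD.nn_mem hA i)) M.φ M.ker_le_center

include p hA h0 in
/-- `P_J` is the image of the stabiliser of `E k true` -/
theorem StK_eq_PJ (hN : NodeK N k) (hG : GG cs (isCartan n) M.T M.X = ⊤) :
    M.StK (E Fr k true) = PJ cs (isCartan n) M.T M.X Nᶜ := by
  have : Finite W := finite_W cs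
  have R := M.rgd cs p hA h0
  have h1 := inf_eq_PJ R (M.B_le_StK cs hN)
  rw [hG, inf_top_eq] at h1
  rw [h1]
  congr 1
  ext i
  rw [Set.mem_ofPred_eq]
  unfold nw
  rw [phi_mem_StK, nn_StE_iff hN]
  rfl

include p hA h0 in
theorem phi_mem_PJ_iff (hN : NodeK N k) (hG : GG cs (isCartan n) M.T M.X = ⊤) {g : M.I} :
    M.φ g ∈ PJ cs (isCartan n) M.T M.X Nᶜ ↔ g.1 ∈ StE (E Fr k true) := by
  rw [← StK_eq_PJ M cs p hA h0 hN hG, phi_mem_StK]

include p hA h0 in
/-- **the Levi subgroup** -/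
theorem phi_mem_LJ_iff (hN : NodeK N k) (hG : GG cs (isCartan n) M.T M.X = ⊤) {g : M.I} :
    M.φ g ∈ LJ cs (isCartan n) M.T M.X Nᶜ ↔ g.1 ∈ StE (E Fr k true) ∧ g.1 ∈ StE (E Fr k false) := by
  have R := M.rgd cs p hA h0
  refine ⟨fun h => ⟨M.phi_mem_StK.1 (M.LJ_le_StK cs hN true h), M.phi_mem_StK.1 (M.LJ_le_StK cs hN false h)⟩, ?_⟩
  rintro ⟨h1, h2⟩
  have h3 := (phi_mem_PJ_iff M cs p hA h0 hN hG).2 h1
  obtain ⟨l, hl, v, hv, e⟩ := (mem_PJ R).1 h3
  obtain ⟨l', hl', rfl⟩ := M.mem_StK.1 (M.LJ_le_StK cs hN false hl)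
  obtain ⟨v', hv', rfl⟩ := M.VJ_le cs hN hv
  have h4 : M.φ (g⁻¹ * (l' * v')) = 1 := by rw [map_mul, map_inv, map_mul, ← e, inv_mul_cancel]
  have h5 := M.ker_StE h4 (E Fr k false)
  have h6 : v'.1 ∈ StE (E Fr k false) := by
    have := mul_mem (inv_mem hl') (mul_mem h2 h5)
    have e2 : l'.1⁻¹ * (g.1 * (g⁻¹ * (l' * v') : M.I).1) = v'.1 := by
      change l'.1⁻¹ * (g.1 * (g.1⁻¹ * (l'.1 * v'.1))) = v'.1
      group
    rwa [e2] at this
  have h7 : v' = 1 := Subtype.ext (UR_inf (hA.iso _ v'.2) hv' h6)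
  rw [e, h7, map_one, mul_one]
  exact hl

end ModelD

end group

/-! ### `PΩ⁺` -/

section Plus

open QuadraticMap
open Cfsg.Agent.LieClassical Cfsg.Agent.LieClassical.OrthCore Cfsg.Agent.LieClassical.OrthTrans
  Cfsg.Agent.LieClassical.OrthSimple Cfsg.Agent.LieClassical.OrthForms
open Cfsg.Agent.TitsThree.WBridge Cfsg.Agent.TitsThree.KSideO Cfsg.Agent.Nodes.WittInst Cfsg.Agent.TitsThree.SiegelGen

variable {ι : Type} [Fintype ι] [DecidableEq ι] {F : Type*} [Field F] {Q : QuadraticForm F (ι → F)} {n : ℕ}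

/-- the model `PΩ(Q)` for a frame of index `n + 2` -/
noncomputable def modelPO (W : WFrame (PO Q) (n + 2)) (hG : Good Q) : ModelD (toFrame W) (Cfsg.POmega F ⇑Q) where
  I := E Q
  φ := toPOmega hG
  ker v _ hg := scalar_of_center hG (center_of_toPOmega hG hg) |>.imp fun _ h => h v
  surj := toPOmega_surjective hG

variable (W : WFrame (PO Q) (n + 2)) (hG : Good Q)

theorem modelPO_T : (modelPO W hG).T = ((Tor (toFrame W) (E Q)).subgroupOf (E Q)).map (toPOmega hG) := rfl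

theorem modelPO_X : (modelPO W hG).X = XD W (toPOmega hG) := rfl

theorem modelPO_GG (h0 : ∀ q : (toFrame W).Adm, q = 1) {G : Type*} [Group G] (cs : CoxeterSystem (TypeD.M n) G) :
    GG cs (isCartan n) (modelPO W hG).T (modelPO W hG).X = ⊤ := by
  have h := G1D_eq_top W (toPOmega hG) (toPOmega_surjective hG) h0 cs
  rw [eq_top_iff, ← h]
  exact le_sup_right

/-- **`L_{Nᶜ}` in `PΩ⁺`** -/
theorem plus_mem_LJ_iff [Finite F] (hG : Good (plusForm (n + 2) F)) {G : Type*} [Group G]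
    (cs : CoxeterSystem (TypeD.M n) G) {k : Fin (n + 2)} {N : Set (Fin (n + 2))} (hN : NodeK N k)
    {g : E (plusForm (n + 2) F)} :
    toPOmega hG g ∈ LJ cs (isCartan n)
        (((Tor (toFrame (wplus (n + 2) F)) (E (plusForm (n + 2) F))).subgroupOf (E (plusForm (n + 2) F))).map
          (toPOmega hG)) (XD (wplus (n + 2) F) (toPOmega hG)) Nᶜ ↔
      g.1 ∈ StE (H769.OZ.E (toFrame (wplus (n + 2) F)) k true) ∧
        g.1 ∈ StE (H769.OZ.E (toFrame (wplus (n + 2) F)) k false) := by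
  obtain ⟨p, hp⟩ := CharP.exists F
  have : Fact p.Prime := ⟨(CharP.char_is_prime_or_zero F p).resolve_right (CharP.char_ne_zero_of_finite F p)⟩
  exact (modelPO (wplus (n + 2) F) hG).phi_mem_LJ_iff cs p (amb_plus _) (adm_plus _) hN
    (modelPO_GG _ hG (adm_plus _) cs)

end Plus

end Cfsg.Agent.H985.XZ
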