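import Cfsg.Agent.H967.XZ.Cen
import Cfsg.Agent.H985.XZ.LeviD

/-!
# The centraliser of `P₀` in the models of type `D` (helper985, for S4791, S4927)

The linear primes, type `D_{n+2}`, `v + e w = n + 2`, `v < e`. The analogue of `H967.XZ.Cen` for `ModelD`:
* `Nd k` : the nodes of the member `k` of the flag;
* `cen_of` : `C(P₀) ≤ L_{JA ∪ JTD}`, `JTD = {k | e w ≤ k}` if `2 ≤ v`, `∅` if `v ≤ 1`.
-/

set_option autoImplicit false
set_option linter.unusedSectionVars false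

namespace Cfsg.Agent.H985.XZ

open Cfsg.Agent.ChevalleyStructure.CoxeterGeom Cfsg.Agent.Tits.Roots
open Cfsg.Agent.Nodes.TypeC (wt wt_apply ng ng_ng ng_fst ng_snd wt_ng)
open Cfsg.Agent.Nodes.TypeD
open Cfsg.Agent.Nodes Cfsg.Agent.Nodes.Comb Cfsg.Agent.Nodes.Reps Cfsg.Agent.Nodes.WittRoot Cfsg.Agent.Nodes.BNOf
open Cfsg.Agent.Nodes.RGDLib Cfsg.Agent.Nodes.WittAll Cfsg.Agent.Nodes.StabComb
open Cfsg.Agent.Nodes.Bruhat Cfsg.Agent.Nodes.OppDec Cfsg.Agent.Nodes.LeviDec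
open Cfsg.Agent.Nodes.WittRGD (Tor mem_Tor)
open Cfsg.Agent.TitsThree Cfsg.Agent.TitsThree.Siegel Cfsg.Agent.TitsThree.WittFrame
  Cfsg.Agent.TitsThree.WittWeyl Cfsg.Agent.TitsThree.FrameCN
open Cfsg.Agent.H769.OZ Cfsg.Agent.H967.XZ
open Polynomial

/-! ### The nodes of the flags -/

section nodes

variable {n : ℕ}

/-- the nodes of the member `k` of the flag -/
def Nd (k : Fin (n + 2)) : Set (Fin (n + 2)) :=
  {i | i = k ∨ ((k : ℕ) = n ∧ i = Fin.last (n + 1))}

theorem nodeK_Nd (k : Fin (n + 2)) : NodeK (Nd k) k := by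
  have hk := k.2
  rcases lt_trichotomy (k : ℕ) n with h | h | h
  · refine Or.inl ⟨h, ?_⟩
    ext i
    simp only [Nd, Set.mem_ofPred_eq, Set.mem_singleton_iff]
    exact ⟨fun h1 => h1.resolve_right fun h2 => by omega, Or.inl⟩
  · refine Or.inr (Or.inl ⟨h, ?_⟩)
    ext i
    simp only [Nd, Set.mem_ofPred_eq, Set.mem_insert_iff, Set.mem_singleton_iff, h, true_and]
  · refine Or.inr (Or.inr ⟨Fin.ext (by simp; omega), ?_⟩)
    ext i
    simp only [Nd, Set.mem_ofPred_eq, Set.mem_singleton_iff]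
    exact ⟨fun h1 => h1.resolve_right fun h2 => by omega, Or.inl⟩

theorem self_mem_Nd (k : Fin (n + 2)) : k ∈ Nd k := Or.inl rfl

/-- `JA ∪ JTD` is the complement of the nodes of the boundaries of the blocks -/
theorem compl_JA_JT {e w v : ℕ} (hv : v < e) (hn : v + e * w = n + 2) (i : Fin (n + 2)) :
    i ∉ H796.XZ.JA (n + 2) e w ∪ {k : Fin (n + 2) | e * w ≤ (k : ℕ) ∧ 2 ≤ v} ↔
      ∃ k : Fin (n + 2), (k : ℕ) < e * w ∧ e ∣ (k : ℕ) + 1 ∧ i ∈ Nd k := by
  have hi := i.2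
  simp only [H796.XZ.JA, Nd, Set.mem_union, Set.mem_ofPred_eq, not_or, not_and, not_not]
  constructor
  · rintro ⟨h1, h2⟩
    by_cases h3 : (i : ℕ) < e * w
    · refine ⟨i, h3, ?_, Or.inl rfl⟩
      by_cases h4 : (i : ℕ) + 1 < e * w
      · exact h1 h4
      · exact ⟨w, by omega⟩
    · -- `v ≤ 1`, `i = last`, `v = 1`
      have h4 : ¬ 2 ≤ v := h2 (not_lt.1 h3)
      have h5 : v = 1 := by omega
      have h6 : (i : ℕ) = n + 1 := by omega
      refine ⟨⟨n, by omega⟩, by simp only; omega, ⟨w, by simp only; omega⟩, Or.inr ⟨rfl, Fin.ext (by rw [h6]; simp)⟩⟩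
  · rintro ⟨k, h1, h2, h3⟩
    have hk := k.2
    rcases h3 with rfl | ⟨h3, rfl⟩
    · exact ⟨fun _ => h2, fun h4 => by omega⟩
    · have h6 : ((Fin.last (n + 1) : Fin (n + 2)) : ℕ) = n + 1 := by simp
      rw [h6]
      exact ⟨fun h4 => by omega, fun _ => by omega⟩

/-- the complement of `JA` -/
theorem compl_JA {e w : ℕ} (hn : e * w ≤ n + 2) (i : Fin (n + 2)) :
    i ∉ H796.XZ.JA (n + 2) e w ↔ ∃ k : Fin (n + 2), k ∉ H796.XZ.JA (n + 2) e w ∧ i ∈ Nd k := by
  constructor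
  · exact fun h => ⟨i, h, self_mem_Nd i⟩
  · rintro ⟨k, hk, rfl | ⟨-, rfl⟩⟩
    · exact hk
    · intro h
      have h1 : ((Fin.last (n + 1) : Fin (n + 2)) : ℕ) + 1 < e * w := h.1
      have h6 : ((Fin.last (n + 1) : Fin (n + 2)) : ℕ) = n + 1 := by simp
      rw [h6] at h1
      omega

end nodes

/-! ### Intersections -/

section inter

variable {n : ℕ} {W Y : Type*} [Group W] [Group Y] {cs : CoxeterSystem (TypeD.M n) W} {r : ℕ}
  {T : Subgroup Y} {nw : Fin (n + 2) → Y} {X : (Fin (n + 2) → ℤ) → Subgroup Y}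

/-- the Levi subgroup of the nodes outside the `Nd k`, `k ∈ S` -/
theorem mem_LJ_iff_Nd [Finite W] (R : RGD cs (isCartan n) r T nw X) (hG : GG cs (isCartan n) T X = ⊤) (S : Finset (Fin (n + 2)))
    {J : Set (Fin (n + 2))} (hJ : ∀ i, i ∉ J ↔ ∃ k ∈ S, i ∈ Nd k) {g : Y} :
    g ∈ LJ cs (isCartan n) T X J ↔ ∀ k ∈ S, g ∈ LJ cs (isCartan n) T X (Nd k)ᶜ := by
  classical
  induction S using Finset.induction_on generalizing J with
  | empty =>
    have h1 : J = Set.univ := by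
      rw [Set.eq_univ_iff_forall]
      intro i
      by_contra h
      obtain ⟨k, hk, -⟩ := (hJ i).1 h
      exact absurd hk (Finset.notMem_empty k)
    rw [h1]
    refine ⟨fun _ k hk => absurd hk (Finset.notMem_empty k), fun _ => ?_⟩
    rw [LJ_univ, hG]
    exact Subgroup.mem_top g
  | insert k S hk ih =>
    have h1 : J = (Nd k)ᶜ ∩ {i | ∀ l ∈ S, i ∉ Nd l} := by
      ext i
      have h2 := hJ i
      constructor
      · intro h3
        refine ⟨fun h4 => (h2.2 ⟨k, Finset.mem_insert_self _ _, h4⟩) h3, fun l hl h4 =>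
          (h2.2 ⟨l, Finset.mem_insert_of_mem hl, h4⟩) h3⟩
      · rintro ⟨h3, h4⟩
        by_contra h5
        obtain ⟨l, hl, h6⟩ := h2.1 h5
        rcases Finset.mem_insert.1 hl with rfl | hl
        · exact h3 h6
        · exact h4 l hl h6
    rw [h1, ← LJ_inter R, Subgroup.mem_inf, ih (J := {i | ∀ l ∈ S, i ∉ Nd l}) (fun i => by
      simp only [Set.mem_ofPred_eq, not_forall, not_not, exists_prop])]
    constructor
    · rintro ⟨h2, h3⟩ j hj
      rcases Finset.mem_insert.1 hj with rfl | hj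
      · exact h2
      · exact h3 j hj
    · intro h2
      exact ⟨h2 k (Finset.mem_insert_self _ _), fun j hj => h2 j (Finset.mem_insert_of_mem hj)⟩

end inter

/-! ### The centraliser -/

namespace ModelD

variable {F : Type*} [Field F] {V : Type*} [AddCommGroup V] [Module F V] {H : HForm F V} {n : ℕ}
  {Fr : Frame H (Fin (n + 2))} {Y : Type*} [Group Y] (M : ModelD Fr Y)

/-- the elements of the kernel are scalars -/
theorem exists_scalar {z : M.I} (hz : M.φ z = 1) : ∃ a : F, ∀ v, z.1 v = a • v := by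
  obtain ⟨a, ha⟩ := LinearMap.exists_eq_smul_id_of_forall_notLinearIndependent (f := (z.1 : V →ₗ[F] V)) (fun v => by
    intro hli
    obtain ⟨k, hk⟩ := M.ker v z hz
    have h1 := LinearIndependent.pair_iff.1 hli k (-1) (by
      change k • v + (-1 : F) • z.1 v = 0
      rw [hk, neg_smul, one_smul, add_neg_cancel])
    exact one_ne_zero (neg_eq_zero.1 h1.2))
  exact ⟨a, fun v => LinearMap.congr_fun ha v⟩

/-- a kernel element of order `p` is trivial -/
theorem eq_one_of_ker_pow (hA : Amb Fr M.I) {p : ℕ}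
    (hs : ∀ a : F, a * H.σ a = 1 → a ^ p = 1 → a = 1) {z : M.I} (hz : M.φ z = 1) (hp : z ^ p = 1) : z = 1 := by
  obtain ⟨a, ha⟩ := M.exists_scalar hz
  set v : V := Fr.b (0, true) with hv
  set v' : V := Fr.b (0, false) with hv'
  have h0 : H.h v v' = 1 := by
    rw [hv, hv', Fr.hb]
    simp
  have hv0 : v ≠ 0 := by
    intro h
    rw [h, H.zero_left] at h0
    exact zero_ne_one h0
  have h1 : a * H.σ a = 1 := by
    have h2 := hA.iso _ z.2 v v'
    rw [ha, ha, H.smul_left, H.smul_right, h0, mul_one] at h2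
    exact h2
  have h2 : ∀ n : ℕ, (z ^ n : M.I).1 v = a ^ n • v := by
    intro n
    induction n with
    | zero => rw [pow_zero, pow_zero, one_smul]; rfl
    | succ n ih =>
      have e : (z ^ (n + 1) : M.I).1 v = (z ^ n : M.I).1 (z.1 v) := by
        rw [pow_succ]
        rfl
      rw [e, ha, map_smul, ih, smul_smul, pow_succ, mul_comm]
  have h3 : a ^ p = 1 := by
    have h4 := h2 p
    rw [hp] at h4
    have h5 : (a ^ p - 1) • v = 0 := by
      rw [sub_smul, one_smul, ← h4]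
      exact sub_self _
    rcases smul_eq_zero.1 h5 with h | h
    · exact sub_eq_zero.1 h
    · exact absurd h hv0
  apply Subtype.ext
  ext v
  rw [ha, hs a h1 h3, one_smul]
  rfl

/-- a lift of an element commuting with `φ x` commutes with `x`, `x ^ p = 1` -/
theorem commute_of_phi (hA : Amb Fr M.I) {p : ℕ}
    (hs : ∀ a : F, a * H.σ a = 1 → a ^ p = 1 → a = 1) {g x : M.I} (hx : x ^ p = 1)
    (h : M.φ g * M.φ x = M.φ x * M.φ g) : g * x = x * g := by
  set z : M.I := g * x * g⁻¹ * x⁻¹ with hz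
  have h1 : M.φ z = 1 := by
    rw [hz, map_mul, map_mul, map_mul, map_inv, map_inv, h]
    group
  have h2 : z ∈ Subgroup.center ↥M.I := M.ker_le_center h1
  have h3 : z * x = x * z := ((Subgroup.mem_center_iff.1 h2) x).symm
  have h4 : z ^ p = 1 := by
    have e : z * x = g * x * g⁻¹ := by
      rw [hz]
      group
    have h5 : (z * x) ^ p = z ^ p * x ^ p := (Commute.mul_pow h3 p)
    rw [e, conj_pow, hx, mul_one, mul_inv_cancel, mul_one] at h5
    exact h5.symm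
  have h5 := M.eq_one_of_ker_pow hA hs h1 h4
  rw [hz] at h5
  calc g * x = (g * x * g⁻¹ * x⁻¹) * (x * g) := by group
    _ = x * g := by rw [h5, one_mul]

variable {W : Type*} [Group W] (cs : CoxeterSystem (TypeD.M n) W) (r : ℕ) [Finite V] [Fact r.Prime] [CharP F r]
  (hA : Amb Fr M.I) (h0 : ∀ q : Fr.Adm, q = 1)

include r hA h0 in
/-- **the centraliser of `P₀`** -/
theorem cen_of_sep (hG : GG cs (isCartan n) M.T M.X = ⊤) {p e w v : ℕ} (hv : v < e) (hn : v + e * w = n + 2)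
    (hs : ∀ a : F, a * H.σ a = 1 → a ^ p = 1 → a = 1) {P₀ : Subgroup Y}
    (hx : ∀ i < w, ∀ s : Bool, ∃ x : M.I, M.φ x ∈ P₀ ∧ x ^ p = 1 ∧
      ∃ f : F[X], ∀ v, aeval (x.1 : Module.End F V) f v = 0 ↔ v ∈ Mb Fr e i s) :
    Subgroup.centralizer (P₀ : Set Y) ≤
      LJ cs (isCartan n) M.T M.X (H796.XZ.JA (n + 2) e w ∪ {k : Fin (n + 2) | e * w ≤ (k : ℕ) ∧ 2 ≤ v}) := by
  classical
  intro c hc
  have : Finite W := finite_W cs
  have R := M.rgd cs r hA h0
  have he : 0 < e := by omega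
  set N : Finset (Fin (n + 2)) := Finset.univ.filter fun k => (k : ℕ) < e * w ∧ e ∣ (k : ℕ) + 1 with hN
  refine (mem_LJ_iff_Nd R hG N fun i => ?_).2 ?_
  · rw [compl_JA_JT hv hn i]
    constructor
    · rintro ⟨k, h1, h2, h3⟩
      exact ⟨k, by rw [hN, Finset.mem_filter]; exact ⟨Finset.mem_univ _, h1, h2⟩, h3⟩
    · rintro ⟨k, h1, h3⟩
      rw [hN, Finset.mem_filter] at h1
      exact ⟨k, h1.2.1, h1.2.2, h3⟩
  intro k hk
  have hk1 : (k : ℕ) < e * w ∧ e ∣ (k : ℕ) + 1 := by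
    rw [hN, Finset.mem_filter] at hk
    exact hk.2
  obtain ⟨g, rfl⟩ := M.surj c
  obtain ⟨j', hj'⟩ := hk1.2
  obtain ⟨j, rfl⟩ : ∃ j, j' = j + 1 := ⟨j' - 1, by
    rcases Nat.eq_zero_or_pos j' with h | h
    · rw [h, mul_zero] at hj'
      omega
    · omega⟩
  have hjw : j < w := by
    by_contra h
    have h1 : e * (w + 1) ≤ e * (j + 1) := Nat.mul_le_mul_left e (by omega)
    rw [← hj'] at h1
    have h2 : e * (w + 1) = e * w + e := Nat.mul_succ e w
    omega
  have key : ∀ s : Bool, g.1 ∈ StE (E Fr k s) := by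
    intro s
    refine mem_StE_of_finite (map_E_of_Mb he hj' fun i hij v hv => ?_)
    obtain ⟨x, hxP, hxp, f, hf⟩ := hx i (by omega) s
    have h1 : g * x = x * g := M.commute_of_phi hA hs hxp ((Subgroup.mem_centralizer_iff.1 hc _ hxP).symm)
    have h2 : g.1 * x.1 = x.1 * g.1 := congrArg Subtype.val h1
    rw [← hf, aeval_commute h2, (hf v).2 hv, map_zero]
  exact (M.phi_mem_LJ_iff cs r hA h0 (nodeK_Nd k) hG).2 ⟨key true, key false⟩

/-! ### The subgroup `P₀` -/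

include r hA h0 in
/-- a lift of an element of `L_{JA}` preserves the blocks -/
theorem stE_Mb_of_mem_LJ (hG : GG cs (isCartan n) M.T M.X = ⊤) {e w : ℕ} (he : 0 < e)
    (hw : e * w ≤ n + 2) {g : M.I}
    (hg : M.φ g ∈ LJ cs (isCartan n) M.T M.X (H796.XZ.JA (n + 2) e w)) {i : ℕ} (hi : i < w) (s : Bool) :
    g.1 ∈ StE (Mb Fr e i s) := by
  have hI := hA.iso _ g.2
  have h1 : ∀ k : Fin (n + 2), k ∉ H796.XZ.JA (n + 2) e w → ∀ s, g.1 ∈ StE (E Fr k s) := by
    intro k hk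
    have hsub : H796.XZ.JA (n + 2) e w ⊆ (Nd k)ᶜ := fun x hx hxk => ((compl_JA hw x).2 ⟨k, hk, hxk⟩) hx
    have h2 : M.φ g ∈ LJ cs (isCartan n) M.T M.X (Nd k)ᶜ :=
      LJ_mono' (cs := cs) (h := isCartan n) (T := M.T) (X := M.X) hsub hg
    have h3 := (M.phi_mem_LJ_iff cs r hA h0 (nodeK_Nd k) hG).1 h2
    intro s
    cases s
    · exact h3.2
    · exact h3.1
  have h2 : e * (i + 1) ≤ e * w := Nat.mul_le_mul_left e hi
  have h2' : e * (i + 1) = e * i + e := Nat.mul_succ e i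
  have hk1 : e * (i + 1) - 1 < n + 2 := by omega
  set k1 : Fin (n + 2) := ⟨e * (i + 1) - 1, hk1⟩ with hk1d
  have hk1' : (k1 : ℕ) + 1 = e * (i + 1) := by
    rw [hk1d]
    simp only
    omega
  have h3 := h1 k1 (fun h => h.2 (by rw [hk1']; exact Dvd.intro _ rfl)) s
  rcases Nat.eq_zero_or_pos i with h4 | h4
  · intro v
    rw [mem_Mb_iff hk1', mem_Mb_iff hk1', h3 v]
    subst h4
    constructor
    · exact fun h => ⟨h.1, fun j hj => absurd hj (by rw [mul_zero]; exact Nat.not_lt_zero _)⟩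
    · exact fun h => ⟨h.1, fun j hj => absurd hj (by rw [mul_zero]; exact Nat.not_lt_zero _)⟩
  · have h5 : e ≤ e * i := Nat.le_mul_of_pos_right e h4
    have hk0 : e * i - 1 < n + 2 := by omega
    set k0 : Fin (n + 2) := ⟨e * i - 1, hk0⟩ with hk0d
    have hk0' : (k0 : ℕ) + 1 = e * i := by
      rw [hk0d]
      simp only
      omega
    have h6 := StE_Pp hI (h1 k0 (fun h => h.2 (by rw [hk0']; exact Dvd.intro _ rfl)) (!s))
    have h7 : ∀ v, (∀ j : Fin (n + 2), (j : ℕ) < e * i → H.h v (Fr.b (j, !s)) = 0) ↔ v ∈ Pp Fr k0 (!s) := by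
      intro v
      constructor
      · exact fun h j hj => h j (by
          have : (j : ℕ) ≤ k0 := Fin.le_def.1 hj
          omega)
      · exact fun h j hj => h j (Fin.le_def.2 (by omega))
    intro v
    rw [mem_Mb_iff hk1', mem_Mb_iff hk1', h3 v, h7, h7, h6 v]

include r hA h0 in
/-- the elements of the blocks preserve the flags -/
theorem mem_LJ_of_blk (hG : GG cs (isCartan n) M.T M.X = ⊤) {p e w : ℕ} (hw : e * w ≤ n + 2) {i : ℕ} (hi : i < w)
    {x : M.I} (hx : BlkEl Fr p e i x.1) :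
    M.φ x ∈ LJ cs (isCartan n) M.T M.X (H796.XZ.JA (n + 2) e w) := by
  classical
  have : Finite W := finite_W cs
  have R := M.rgd cs r hA h0
  set N : Finset (Fin (n + 2)) := Finset.univ.filter fun k => ¬ ((k : ℕ) + 1 < e * w ∧ ¬ e ∣ (k : ℕ) + 1) with hN
  refine (mem_LJ_iff_Nd R hG N fun i => ?_).2 ?_
  · rw [compl_JA hw i]
    constructor
    · rintro ⟨k, h1, h3⟩
      exact ⟨k, by rw [hN, Finset.mem_filter]; exact ⟨Finset.mem_univ _, h1⟩, h3⟩
    · rintro ⟨k, h1, h3⟩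
      rw [hN, Finset.mem_filter] at h1
      exact ⟨k, h1.2, h3⟩
  intro k hk
  have hk1 : ¬ ((k : ℕ) + 1 < e * w ∧ ¬ e ∣ (k : ℕ) + 1) := by
    rw [hN, Finset.mem_filter] at hk
    exact hk.2
  have h2 : e * (i + 1) ≤ e * w := Nat.mul_le_mul_left e hi
  have h2' : e * (i + 1) = e * i + e := Nat.mul_succ e i
  have hout : ∀ l ∉ Bk (n + 2) e i, ∀ s, x.1 (Fr.b (l, s)) = Fr.b (l, s) := by
    intro l hl s
    refine hx.fix _ fun s' => h_Mb_of_b fun k' hk' => Fr.hb_of_ne (fun h => hl ?_)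
    have h3 : l = k' := h
    rwa [h3]
  have key : ∀ s, x.1 ∈ StE (E Fr k s) := by
    intro s
    refine mem_StE_of_finite fun v hv => ?_
    refine Submodule.span_induction (p := fun v _ => x.1 v ∈ E Fr k s) ?_ ?_ ?_ ?_ hv
    · rintro _ ⟨l, hl, rfl⟩
      by_cases hlB : l ∈ Bk (n + 2) e i
      · -- the block is in `E k s`
        have h3 := mem_Bk.1 hlB
        have h4 : (l : ℕ) ≤ k := Fin.le_def.1 hl
        have h5 : e * (i + 1) ≤ (k : ℕ) + 1 := by
          by_cases h6 : (k : ℕ) + 1 < e * w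
          · have h7 : e ∣ (k : ℕ) + 1 := by
              by_contra h7
              exact hk1 ⟨h6, h7⟩
            obtain ⟨q, hq⟩ := h7
            rw [hq]
            refine Nat.mul_le_mul_left e ?_
            by_contra h8
            have h9 : e * q ≤ e * i := Nat.mul_le_mul_left e (by omega)
            omega
          · omega
        have h6 : Mb Fr e i s ≤ E Fr k s := by
          refine Submodule.span_le.2 ?_
          rintro _ ⟨k', -, h7, rfl⟩
          exact b_mem_E (Fin.le_def.2 (by omega)) s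
        exact h6 (hx.blk s _ (b_mem_Mb' hlB s))
      · rw [hout l hlB]
        exact b_mem_E hl s
    · rw [map_zero]
      exact zero_mem _
    · intro a b _ _ ha hb
      rw [map_add]
      exact add_mem ha hb
    · intro c a _ ha
      rw [map_smul]
      exact Submodule.smul_mem _ _ ha
  exact (M.phi_mem_LJ_iff cs r hA h0 (nodeK_Nd k) hG).2 ⟨key true, key false⟩

include r hA h0 in
/-- the elements of the blocks can be chosen in the Sylow subgroup `P₀` of `L_{JA}` -/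
theorem exists_mem_of_blk (hG : GG cs (isCartan n) M.T M.X = ⊤) {p e w : ℕ} [Fact p.Prime] (he : 0 < e)
    (hw : e * w ≤ n + 2) {P₀ : Subgroup Y} (hIs : IsPGroup p P₀)
    (hS : ¬ p ∣ P₀.relIndex (LJ cs (isCartan n) M.T M.X (H796.XZ.JA (n + 2) e w)))
    {i : ℕ} (hi : i < w) {y : M.I} (hy : BlkEl Fr p e i y.1) : ∃ x : M.I, M.φ x ∈ P₀ ∧ BlkEl Fr p e i x.1 := by
  have : Finite (V ≃ₗ[F] V) := Finite.of_injective (fun g : V ≃ₗ[F] V => (g : V → V)) DFunLike.coe_injective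
  have : Finite Y := Finite.of_surjective _ M.surj
  set L := LJ cs (isCartan n) M.T M.X (H796.XZ.JA (n + 2) e w) with hL
  have hyL : M.φ y ∈ L := M.mem_LJ_of_blk cs r hA h0 hG hw hi hy
  have hIs' : IsPGroup p (P₀.subgroupOf L) := hIs.comap_subtype
  set P : Sylow p L := hIs'.toSylow hS with hPd
  have hyp : (⟨M.φ y, hyL⟩ : L) ^ p = 1 := by
    apply Subtype.ext
    change M.φ y ^ p = 1
    rw [← map_pow]
    have h1 : y ^ p = 1 := Subtype.ext hy.pow
    rw [h1, map_one]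
  have hQ : IsPGroup p (Subgroup.zpowers (⟨M.φ y, hyL⟩ : L)) := by
    rintro ⟨z, k, rfl⟩
    refine ⟨1, ?_⟩
    apply Subtype.ext
    change ((⟨M.φ y, hyL⟩ : L) ^ k) ^ (p ^ 1) = 1
    rw [pow_one, ← zpow_natCast, ← zpow_mul, mul_comm, zpow_mul, zpow_natCast, hyp, one_zpow]
  obtain ⟨Q, hQ'⟩ := hQ.exists_le_sylow
  obtain ⟨c, hc⟩ := MulAction.exists_smul_eq L Q P
  obtain ⟨g, hg⟩ := M.surj (c : Y)
  have h1 : c * ⟨M.φ y, hyL⟩ * c⁻¹ ∈ (P : Subgroup L) := by
    rw [← hc]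
    exact Subgroup.smul_mem_pointwise_smul _ (MulAut.conj c) _ (hQ' (Subgroup.mem_zpowers _))
  have h2 : M.φ (g * y * g⁻¹) ∈ P₀ := by
    have h3 : ((c * ⟨M.φ y, hyL⟩ * c⁻¹ : L) : Y) ∈ P₀ := Subgroup.mem_subgroupOf.1 h1
    rw [map_mul, map_mul, map_inv, hg]
    exact h3
  refine ⟨g * y * g⁻¹, h2, ?_⟩
  have h3 : M.φ g ∈ L := by
    rw [hg]
    exact c.2
  exact hy.conj (hA.iso _ g.2) fun s => M.stE_Mb_of_mem_LJ cs r hA h0 hG he hw h3 hi s

include r hA h0 in
/-- **The centraliser of `P₀`** : the field `cen` of `LinData`, type `D` -/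
theorem cen_of [Fintype F] (hG : GG cs (isCartan n) M.T M.X = ⊤) {p e w v : ℕ} [Fact p.Prime]
    (he : e = orderOf (Fintype.card F : ZMod p)) (hpF : ¬ p ∣ Fintype.card F) {t : ℕ}
    (hσ : ∀ a, H.σ a = a ^ (r ^ t)) (hlin : ∀ j, ¬ p ∣ Fintype.card F ^ j + r ^ t) (hv : v < e)
    (hn : v + e * w = n + 2) {P₀ : Subgroup Y} (hIs : IsPGroup p P₀)
    (hS : ¬ p ∣ P₀.relIndex (LJ cs (isCartan n) M.T M.X (H796.XZ.JA (n + 2) e w)))
    (hy : ∀ i < w, ∃ y : M.I, BlkEl Fr p e i y.1) :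
    Subgroup.centralizer (P₀ : Set Y) ≤
      LJ cs (isCartan n) M.T M.X (H796.XZ.JA (n + 2) e w ∪ {k : Fin (n + 2) | e * w ≤ (k : ℕ) ∧ 2 ≤ v}) := by
  have he0 : 0 < e := by omega
  refine M.cen_of_sep cs r hA h0 hG (p := p) hv hn (fun a h1 h2 => ?_) fun i hi s => ?_
  · -- `a ^ (1 + r ^ t) = 1`, `a ^ p = 1`
    rw [hσ, ← pow_succ'] at h1
    have h3 : ¬ p ∣ r ^ t + 1 := by
      have := hlin 0
      rwa [pow_zero, Nat.add_comm] at this
    have h4 : Nat.Coprime p (r ^ t + 1) := ((Fact.out : p.Prime).coprime_iff_not_dvd).2 h3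
    have h5 := Nat.dvd_gcd (orderOf_dvd_of_pow_eq_one h2) (orderOf_dvd_of_pow_eq_one h1)
    rw [h4] at h5
    exact orderOf_eq_one_iff.1 (Nat.dvd_one.1 h5)
  · obtain ⟨y, hy⟩ := hy i hi
    obtain ⟨x, hx1, hx2⟩ := M.exists_mem_of_blk cs r hA h0 hG he0 (by omega) hIs hS hi hy
    exact ⟨x, hx1, Subtype.ext hx2.pow, hx2.sep (hA.iso _ x.2) he hpF hσ hlin s⟩

end ModelD

end Cfsg.Agent.H985.XZ
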